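import Groth.Agent.CatLib.CM
import Groth.Agent.RegImmKindLib.CM
import Groth.Agent.NormalLib.Serre
import Groth.Agent.FibDimLib.Formula
import Groth.Agent.HironakaLib.Main
import Groth.Prelude.Def_EGA4b

/-! Height-one hulls of domain quotients of Cohen–Macaulay rings. -/

set_option autoImplicit false
set_option linter.style.haveILetI false
set_option maxHeartbeats 800000

universe u

open IsLocalRing nonZeroDivisors RingTheory.Sequence CommAlgDim

namespace HullCM

variable {S : Type u} [CommRing S] [IsNoetherianRing S]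

/-- A unit coset modulo a minimal associated prime meets the non-zero-divisors. -/
theorem exists_lift (P : Ideal S) [P.IsPrime] (hmin : ∀ Q ∈ associatedPrimes S S, Q ∈ minimalPrimes S)
    {a : S} (ha : a ∉ P) : ∃ π ∈ P, a + π ∈ S⁰ := by
  classical
  let F : Finset (Ideal S) := (associatedPrimes.finite S S).toFinset
  let K : Ideal S := P ⊓ (F.filter (fun Q => a ∉ Q)).inf id
  obtain ⟨π, hπ, hπa⟩ : ∃ π ∈ K, ∀ Q ∈ F.filter (fun Q => a ∈ Q), π ∉ Q := by
    by_contra hcon
    push Not at hcon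
    have h : (K : Set S) ⊆ ⋃ Q ∈ (↑(F.filter (fun Q => a ∈ Q)) : Set (Ideal S)), (Q : Set S) := fun x hx => by
      obtain ⟨Q, hQ, hxQ⟩ := hcon x hx
      exact Set.mem_iUnion₂.2 ⟨Q, hQ, hxQ⟩
    have hp : ∀ Q ∈ F, Q.IsPrime := fun Q hQ => ((associatedPrimes.finite S S).mem_toFinset.1 hQ).isPrime
    rcases (Ideal.subset_union_prime (f := fun Q => Q) K K (fun Q hQ _ _ => hp Q (Finset.mem_filter.1 hQ).1)).1 h with
      ⟨Q, hQ, hKQ⟩
    obtain ⟨hQF, haQ⟩ := Finset.mem_filter.1 hQ
    have hQmin := hmin Q ((associatedPrimes.finite S S).mem_toFinset.1 hQF)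
    rcases (hp Q hQF).inf_le.1 hKQ with h1 | h1
    · exact ha (le_antisymm h1 (hQmin.2 ⟨inferInstance, bot_le⟩ h1) ▸ haQ)
    · obtain ⟨Q', hQ', hle⟩ := ((hp Q hQF).inf_le').1 h1
      obtain ⟨hQ'F, haQ'⟩ := Finset.mem_filter.1 hQ'
      exact haQ' (hQmin.2 ⟨hp Q' hQ'F, bot_le⟩ hle haQ)
  refine ⟨π, hπ.1, mem_nonZeroDivisors_iff_right.2 fun x hx => ?_⟩
  by_contra hx0
  obtain ⟨Q, hQ, hle⟩ := exists_le_isAssociatedPrime_of_isNoetherianRing S x hx0
  have hmem : a + π ∈ Q := hle (by
    rw [Submodule.mem_colon_singleton, Submodule.mem_bot, smul_eq_mul, mul_comm]; exact hx)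
  have hQF : Q ∈ F := (associatedPrimes.finite S S).mem_toFinset.2 hQ
  by_cases haQ : a ∈ Q
  · exact hπa Q (Finset.mem_filter.2 ⟨hQF, haQ⟩) (by simpa using sub_mem hmem haQ)
  · have : π ∈ Q := Finset.inf_le (f := id) (Finset.mem_filter.2 ⟨hQF, haQ⟩) hπ.2
    exact haQ (by simpa using sub_mem hmem this)

/-- The height-one hull of a quotient by an associated prime is finite when the ring has no embedded primes in
codimension zero and one. -/
theorem hullFinite_quotient (P : Ideal S) [P.IsPrime] (e : S) (he : ∀ x, x * e = 0 ↔ x ∈ P)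
    (hmin : ∀ Q ∈ associatedPrimes S S, Q ∈ minimalPrimes S)
    (hone : ∀ a ∈ S⁰, ∀ Q ∈ associatedPrimes S (S ⧸ Ideal.span {a}), Q.height ≤ 1) :
    EGA4.HeightOneHullFinite (S ⧸ P) := by
  let D := S ⧸ P
  let K := FractionRing D
  let φ : S →+* K := (algebraMap D K).comp (Ideal.Quotient.mk P)
  have hφ : ∀ x, φ x = 0 ↔ x ∈ P := fun x => by
    rw [show φ x = algebraMap D K (Ideal.Quotient.mk P x) from rfl,
      IsFractionRing.to_map_eq_zero_iff, Ideal.Quotient.eq_zero_iff_mem]
  have hreg : ∀ a ∈ S⁰, a ∉ P := fun a ha haP => by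
    have h1 := mem_nonZeroDivisors_iff_right.1 ha e (by rw [mul_comm]; exact (he a).2 haP)
    exact (inferInstance : P.IsPrime).ne_top (P.eq_top_iff_one.2 ((he 1).1 (by rw [one_mul]; exact h1)))
  let C : Subalgebra D K :=
    { carrier := EGA4.heightOneHull D
      mul_mem' := fun {x y} hx hy Q _ h1 => by
        obtain ⟨s, hs, b, hb⟩ := hx Q h1
        obtain ⟨t, ht, c, hc⟩ := hy Q h1
        exact ⟨s * t, Ideal.IsPrime.mul_notMem inferInstance hs ht, b * c, by rw [map_mul, hb, hc, map_mul]; ring⟩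
      add_mem' := fun {x y} hx hy Q _ h1 => by
        obtain ⟨s, hs, b, hb⟩ := hx Q h1
        obtain ⟨t, ht, c, hc⟩ := hy Q h1
        refine ⟨s * t, Ideal.IsPrime.mul_notMem inferInstance hs ht, t * b + s * c, ?_⟩
        rw [map_add, map_mul, map_mul, hb, hc, map_mul]; ring
      algebraMap_mem' := fun r Q hQ _ => ⟨1, fun h => hQ.ne_top (Q.eq_top_iff_one.2 h), r, by rw [map_one, one_mul]⟩ }
  let R : C → S → Prop := fun z y => ∃ a b, a ∈ S⁰ ∧ φ a * z.1 = φ b ∧ a * y = b * e
  have huniq : ∀ z y y', R z y → R z y' → y = y' := by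
    rintro z y y' ⟨a, b, ha, hab, hy⟩ ⟨a', b', ha', hab', hy'⟩
    have h1 : a' * b - a * b' ∈ P := by
      rw [← hφ, map_sub, map_mul, map_mul, ← hab, ← hab']; ring
    have h2 := (he _).2 h1
    have h3 : (y - y') * (a * a') = 0 := by linear_combination a' * hy - a * hy' + h2
    exact sub_eq_zero.1 (mem_nonZeroDivisors_iff_right.1 (mul_mem ha ha') _ h3)
  have hex : ∀ z, ∃ y, R z y := by
    rintro ⟨z, hz⟩
    obtain ⟨b, a, ha, rfl⟩ := IsFractionRing.div_surjective (A := D) z
    obtain ⟨b, rfl⟩ := Ideal.Quotient.mk_surjective b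
    obtain ⟨a, rfl⟩ := Ideal.Quotient.mk_surjective a
    have haP : a ∉ P := fun h => nonZeroDivisors.ne_zero ha (Ideal.Quotient.eq_zero_iff_mem.2 h)
    obtain ⟨π, hπ, hreg'⟩ := exists_lift P hmin haP
    have hφa : φ (a + π) = φ a := by rw [map_add, (hφ π).2 hπ, add_zero]
    have hφa0 : φ a ≠ 0 := fun h => haP ((hφ a).1 h)
    obtain ⟨y, hy⟩ : a + π ∣ b * e := by
      refine NormalLib.dvd_of_forall_associatedPrimes fun Q hQ => ?_
      haveI := hQ.isPrime
      by_cases hPQ : P ≤ Q
      · haveI hmapP : (Q.map (Ideal.Quotient.mk P)).IsPrime :=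
          Ideal.map_isPrime_of_surjective Ideal.Quotient.mk_surjective (by rw [Ideal.mk_ker]; exact hPQ)
        have hc : (Q.map (Ideal.Quotient.mk P)).comap (Ideal.Quotient.mk P) = Q := by
          rw [Ideal.comap_map_of_surjective _ Ideal.Quotient.mk_surjective, ← RingHom.ker_eq_comap_bot, Ideal.mk_ker,
            sup_eq_left.2 hPQ]
        have haQ : a + π ∈ Q := by
          refine IsAssociatedPrime.annihilator_le hQ ?_
          rw [Submodule.mem_annihilator]
          rintro x -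
          obtain ⟨x, rfl⟩ := Ideal.Quotient.mk_surjective x
          rw [Algebra.smul_def, Ideal.Quotient.algebraMap_eq, ← map_mul, Ideal.Quotient.eq_zero_iff_mem]
          exact Ideal.mul_mem_right _ _ (Ideal.mem_span_singleton_self _)
        have h1 : (Q.map (Ideal.Quotient.mk P)).height = 1 := by
          refine le_antisymm ?_ ?_
          · exact (FibDimLib.height_map_quotient_le hPQ).trans (hone _ hreg' Q hQ)
          · rw [Order.one_le_iff_pos]
            refine lt_of_le_of_lt zero_le (Ideal.height_strict_mono_of_isPrime (I := ⊥) (bot_lt_iff_ne_bot.2 fun h0 => ?_))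
            rw [Ideal.map_eq_bot_iff_le_ker, Ideal.mk_ker] at h0
            exact hreg _ hreg' (h0 haQ)
        obtain ⟨s, hs, c, hc'⟩ := hz _ h1
        obtain ⟨s, rfl⟩ := Ideal.Quotient.mk_surjective s
        obtain ⟨c, rfl⟩ := Ideal.Quotient.mk_surjective c
        refine ⟨s, fun h => hs (Ideal.mem_map_of_mem _ h), c * e, ?_⟩
        have h2 : s * b - (a + π) * c ∈ P := by
          rw [← hφ, map_sub, map_mul, map_mul, hφa]
          have hc'' : φ c = φ s * (φ b / φ a) := hc'
          rw [hc'', mul_left_comm (φ a), mul_div_cancel₀ _ hφa0, sub_self]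
        linear_combination (he _).2 h2
      · obtain ⟨s, hs, hsQ⟩ := SetLike.not_le_iff_exists.1 hPQ
        exact ⟨s, hsQ, 0, by rw [mul_zero, mul_left_comm, (he s).2 hs, mul_zero]⟩
    refine ⟨y, a + π, b, hreg', ?_, hy.symm⟩
    rw [hφa]
    show φ a * (φ b / φ a) = φ b
    rw [mul_div_cancel₀ _ hφa0]
  choose ψ hψ using hex
  let Ψ : C →ₗ[S] S :=
    { toFun := ψ
      map_add' := fun z z' => by
        obtain ⟨a, b, ha, hab, hy⟩ := hψ z
        obtain ⟨a', b', ha', hab', hy'⟩ := hψ z'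
        refine huniq _ _ _ (hψ _) ⟨a * a', a' * b + a * b', mul_mem ha ha', ?_, ?_⟩
        · rw [map_add, map_mul, map_mul, map_mul, ← hab, ← hab', AddMemClass.coe_add]; ring
        · linear_combination a' * hy + a * hy'
      map_smul' := fun r z => by
        obtain ⟨a, b, ha, hab, hy⟩ := hψ z
        refine huniq _ _ _ (hψ _) ⟨a, r * b, ha, ?_, ?_⟩
        · show φ a * (r • z.1) = _
          rw [map_mul, ← hab, Algebra.smul_def]
          show φ a * (φ r * z.1) = _
          ring
        · rw [RingHom.id_apply, smul_eq_mul]; linear_combination r * hy }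
  have hinj : Function.Injective Ψ := (injective_iff_map_eq_zero Ψ).2 fun z hz => by
    obtain ⟨a, b, ha, hab, hy⟩ := hψ z
    rw [show ψ z = 0 from hz, mul_zero] at hy
    rw [(hφ b).2 ((he b).1 hy.symm)] at hab
    exact Subtype.ext ((mul_eq_zero.1 hab).resolve_left fun h => hreg a ha ((hφ a).1 h))
  haveI : Module.Finite S C := Module.Finite.of_injective Ψ hinj
  exact ⟨C, rfl, Module.Finite.of_restrictScalars_finite S D C⟩

theorem mem_minimalPrimes_of_ass [IsLocalRing S] (hS : IsCM S) {Q : Ideal S}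
    (hQ : Q ∈ associatedPrimes S S) : Q ∈ minimalPrimes S := by
  haveI := hQ.isPrime
  obtain ⟨d, hd⟩ := exists_ringKrullDim_eq (R := S)
  have h1 := CatLib.ringKrullDim_quotient_add_height hS Q
  rw [CatLib.ringKrullDim_quotient_of_mem_associatedPrimes hS hQ, hd] at h1
  obtain ⟨h, hh⟩ := ENat.ne_top_iff_exists.1 (Ideal.height_ne_top (Ideal.IsPrime.ne_top (I := Q) inferInstance))
  rw [← hh] at h1
  have h2 : d + h = d := by exact_mod_cast h1
  refine ⟨⟨inferInstance, bot_le⟩, fun P hP hPQ => ?_⟩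
  by_contra hne
  haveI := hP.1
  have h3 := Ideal.height_strict_mono_of_isPrime (lt_of_le_of_ne hPQ fun h => hne h.ge)
  rw [← hh, show h = 0 by omega, Nat.cast_zero] at h3
  exact not_lt_bot h3

theorem height_le_one_of_ass [IsLocalRing S] (hS : IsCM S) {a : S} (ha : a ∈ S⁰) {Q : Ideal S}
    (hQ : Q ∈ associatedPrimes S (S ⧸ Ideal.span {a})) : Q.height ≤ 1 := by
  haveI := hQ.isPrime
  obtain ⟨-, x, hx⟩ := isAssociatedPrime_iff.1 hQ
  have ham : a ∈ maximalIdeal S := by
    by_contra hu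
    have : Subsingleton (S ⧸ Ideal.span {a}) :=
      Ideal.Quotient.subsingleton_iff.2 (Ideal.span_singleton_eq_top.2 (notMem_maximalIdeal.1 hu))
    refine hQ.isPrime.ne_top ?_
    rw [hx, Subsingleton.elim x 0]
    simp
  have haS : IsSMulRegular S a := fun u v h => by
    have h' : (u - v) * a = 0 := by
      have : a * u = a * v := h
      linear_combination this
    exact sub_eq_zero.1 (mem_nonZeroDivisors_iff_right.1 ha _ h')
  haveI := nontrivial_quotient (singleton_ne_top ham)
  haveI : IsLocalRing (S ⧸ Ideal.span {a}) := IsLocalRing.of_surjective' _ Ideal.Quotient.mk_surjective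
  have haQ : a ∈ Q := by
    rw [hx, Submodule.mem_colon_singleton, Submodule.mem_bot]
    obtain ⟨x, rfl⟩ := Ideal.Quotient.mk_surjective x
    rw [Algebra.smul_def, Ideal.Quotient.algebraMap_eq, ← map_mul, Ideal.Quotient.eq_zero_iff_mem]
    exact Ideal.mul_mem_right _ _ (Ideal.mem_span_singleton_self _)
  set Q' := Q.map (Ideal.Quotient.mk (Ideal.span {a})) with hQ'
  have hle : Ideal.span {a} ≤ Q := (Ideal.span_singleton_le_iff_mem _).2 haQ
  haveI : Q'.IsPrime := Ideal.map_isPrime_of_surjective Ideal.Quotient.mk_surjective (by rw [Ideal.mk_ker]; exact hle)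
  have hass : Q' ∈ associatedPrimes (S ⧸ Ideal.span {a}) (S ⧸ Ideal.span {a}) := by
    refine isAssociatedPrime_iff.2 ⟨inferInstance, x, ?_⟩
    ext z
    obtain ⟨r, rfl⟩ := Ideal.Quotient.mk_surjective z
    rw [Submodule.mem_colon_singleton, Submodule.mem_bot, hQ', Ideal.mem_quotient_iff_mem hle, hx,
      Submodule.mem_colon_singleton, Submodule.mem_bot]
    rfl
  have hdim := CatLib.ringKrullDim_quotient_of_mem_associatedPrimes (hS.quotient_singleton haS ham) hass
  have h1 := CatLib.ringKrullDim_quotient_add_height hS Q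
  rw [ringKrullDim_eq_of_ringEquiv (DoubleQuot.quotQuotEquivQuotOfLE hle)] at hdim
  obtain ⟨d', hd'⟩ := exists_ringKrullDim_eq (R := S ⧸ Ideal.span {a})
  obtain ⟨d, hd⟩ := exists_ringKrullDim_eq (R := S)
  obtain ⟨h, hh⟩ := ENat.ne_top_iff_exists.1 (Ideal.height_ne_top (Ideal.IsPrime.ne_top (I := Q) inferInstance))
  have h2 := ringKrullDim_quotient_span_singleton_succ_eq_ringKrullDim haS ham
  rw [hdim, hd', hd, ← hh] at h1
  rw [hd', hd] at h2
  have e1 : d' + h = d := by exact_mod_cast h1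
  have e2 : d' + 1 = d := by exact_mod_cast h2
  rw [← hh, show h = 1 by omega, Nat.cast_one]

/-- Domain quotients of Cohen–Macaulay local rings have finite height-one hulls. -/
theorem hullFinite_of_cm {R : Type u} [CommRing R] [IsLocalRing R] [IsNoetherianRing R] (hR : IsCM R)
    (P : Ideal R) [P.IsPrime] : EGA4.HeightOneHullFinite (R ⧸ P) := by
  obtain ⟨h, hh⟩ := ENat.ne_top_iff_exists.1 (Ideal.height_ne_top (Ideal.IsPrime.ne_top (I := P) inferInstance))
  obtain ⟨rs, hl, hm, hr⟩ := CatLib.hasSeqIn_prime hR P hh.symm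
  have hrm : ∀ r ∈ rs, r ∈ maximalIdeal R := fun r hr => le_maximalIdeal (Ideal.IsPrime.ne_top (I := P) inferInstance) (hm r hr)
  set J := Ideal.ofList rs with hJ
  have hJP : J ≤ P := ofList_le_iff.2 hm
  haveI : Nontrivial (R ⧸ J) := Ideal.Quotient.nontrivial_iff.2 (ne_top_of_le_ne_top (Ideal.IsPrime.ne_top (I := P) inferInstance) hJP)
  haveI : IsLocalRing (R ⧸ J) := IsLocalRing.of_surjective' _ Ideal.Quotient.mk_surjective
  have hS : IsCM (R ⧸ J) := RegImmKindLib.isCM_quotient_ofList _ R rs rfl hr hrm hR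
  set P' := P.map (Ideal.Quotient.mk J) with hP'
  haveI : P'.IsPrime := Ideal.map_isPrime_of_surjective Ideal.Quotient.mk_surjective (by rw [Ideal.mk_ker]; exact hJP)
  have hdimS := ringKrullDim_add_length_eq_ringKrullDim_of_isRegular rs
    (IsRegular.of_isWeaklyRegular_of_mem_maximalIdeal R hrm hr)
  have h1 := CatLib.ringKrullDim_quotient_add_height hR P
  have h2 := CatLib.ringKrullDim_quotient_add_height hS P'
  rw [ringKrullDim_eq_of_ringEquiv (DoubleQuot.quotQuotEquivQuotOfLE hJP)] at h2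
  haveI := Ideal.Quotient.nontrivial_iff.2 (Ideal.IsPrime.ne_top (I := P) inferInstance)
  haveI : IsLocalRing (R ⧸ P) := IsLocalRing.of_surjective' _ Ideal.Quotient.mk_surjective
  obtain ⟨n, hn⟩ := exists_ringKrullDim_eq (R := R ⧸ P)
  obtain ⟨d, hd⟩ := exists_ringKrullDim_eq (R := R)
  obtain ⟨d', hd'⟩ := exists_ringKrullDim_eq (R := R ⧸ J)
  obtain ⟨h', hh'⟩ := ENat.ne_top_iff_exists.1 (Ideal.height_ne_top (Ideal.IsPrime.ne_top (I := P') inferInstance))
  rw [hn, ← hh, hd] at h1
  rw [hn, ← hh', hd'] at h2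
  rw [hd, hl, hd'] at hdimS
  have e1 : n + h = d := by exact_mod_cast h1
  have e2 : n + h' = d' := by exact_mod_cast h2
  have e3 : d' + h = d := by exact_mod_cast hdimS
  have hmin : P' ∈ minimalPrimes (R ⧸ J) := by
    refine ⟨⟨inferInstance, bot_le⟩, fun Q hQ hle => ?_⟩
    by_contra hne
    haveI := hQ.1
    have h3 := Ideal.height_strict_mono_of_isPrime (lt_of_le_of_ne hle fun h => hne h.ge)
    rw [← hh', show h' = 0 by omega, Nat.cast_zero] at h3
    exact not_lt_bot h3
  have hass : P' ∈ associatedPrimes (R ⧸ J) (R ⧸ J) := by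
    refine Module.associatedPrimes.minimalPrimes_annihilator_subset_associatedPrimes (R ⧸ J) (R ⧸ J) ?_
    rwa [Module.annihilator_eq_bot.2 inferInstance]
  obtain ⟨-, e, he⟩ := isAssociatedPrime_iff.1 hass
  haveI : IsDomain ((R ⧸ J) ⧸ P') := Ideal.Quotient.isDomain _
  refine HironakaAux.hullFinite_of_ringEquiv (DoubleQuot.quotQuotEquivQuotOfLE hJP).symm
    (hullFinite_quotient P' e (fun x => ?_) (fun Q hQ => mem_minimalPrimes_of_ass hS hQ)
      fun a ha Q hQ => height_le_one_of_ass hS ha hQ)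
  rw [he, Submodule.mem_colon_singleton, Submodule.mem_bot, smul_eq_mul]

end HullCM
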